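import Groth.Agent.S9799
import Groth.Agent.EtStalk.Normal
import Mathlib.AlgebraicGeometry.Morphisms.FlatMono
import Mathlib.AlgebraicGeometry.Morphisms.Etale
import Mathlib.AlgebraicGeometry.IdealSheaf.Subscheme
import Mathlib.AlgebraicGeometry.Noetherian

/-!
The scheme-theoretic image of a section contained in a closed subscheme which is étale over a normal base.
-/

set_option autoImplicit false
universe u

open CategoryTheory CategoryTheory.Limits AlgebraicGeometry TopologicalSpace

namespace Groth.Agent.AlignedLib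

theorem isNormalScheme_of_etale {X Y : Scheme.{u}} (f : X ⟶ Y) [AlgebraicGeometry.Etale f]
    (hY : Pi1.IsNormalScheme Y) : Pi1.IsNormalScheme X := fun x =>
  (Groth.Agent.EtStalk.normal_stalk_iff f x).2 (hY (f.base x))

theorem isReduced_of_isNormal {X : Scheme.{u}} (hX : Pi1.IsNormalScheme X) : IsReduced X := by
  haveI : ∀ x : X, _root_.IsReduced (X.presheaf.stalk x) := fun x => by
    haveI := (hX x).1
    infer_instance
  exact isReduced_of_isReduced_stalk X

/-- In a normal locally Noetherian scheme the closure of an open set is open. -/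
theorem isOpen_closure {X : Scheme.{u}} [IsLocallyNoetherian X] (hX : Pi1.IsNormalScheme X)
    {U : Set X} (hU : IsOpen U) : IsOpen (closure U) := by
  have hfin : ∀ V : X.Opens, IsCompact (V : Set X) → (irreducibleComponents ↥V).Finite := fun V hV => by
    haveI : CompactSpace (V : Scheme.{u}) := isCompact_iff_compactSpace.1 hV
    haveI : AlgebraicGeometry.IsNoetherian (V : Scheme.{u}) := {}
    exact NoetherianSpace.finite_irreducibleComponents (α := (V : Scheme.{u}))
  obtain ⟨hopen, hdis⟩ := Groth.Agent.S9799.result X hfin hX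
  refine isOpen_iff_forall_mem_open.2 fun x hx => ?_
  obtain ⟨Z, hZ, hxZ⟩ : ∃ Z ∈ irreducibleComponents X, x ∈ Z :=
    ⟨_, irreducibleComponent_mem_irreducibleComponents x, mem_irreducibleComponent⟩
  refine ⟨Z, fun z hz => ?_, hopen Z hZ, hxZ⟩
  obtain ⟨w, hwZ, hwU⟩ := mem_closure_iff.1 hx Z (hopen Z hZ) hxZ
  rw [mem_closure_iff]
  intro O hO hzO
  obtain ⟨y, hyZ, hyU, hyO⟩ := hZ.1.2 U O hU hO ⟨w, hwZ, hwU⟩ ⟨z, hz, hzO⟩
  exact ⟨y, hyO, hyU⟩

/-- Restricting along a dense open into a reduced closed subscheme does not change the image. -/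
theorem ker_comp_eq {S W G : Scheme.{u}} (d : S ⟶ W) (j : W ⟶ G) [IsReduced W] [IsClosedImmersion j]
    (hd : DenseRange d.base) : (d ≫ j).ker = j.ker := by
  refine le_antisymm ?_ (d.le_ker_comp j)
  let f := d ≫ j
  let c : pullback j f.imageι ⟶ W := pullback.fst j f.imageι
  have hsurj : Surjective c := by
    refine ⟨fun w => ?_⟩
    have hle : Set.range d.base ⊆ Set.range c.base := by
      rintro _ ⟨s, rfl⟩
      have e : pullback.lift d f.toImage f.toImage_imageι.symm ≫ c = d := pullback.lift_fst _ _ _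
      exact ⟨(pullback.lift d f.toImage f.toImage_imageι.symm).base s, congr(($e).base s)⟩
    have h1 := closure_minimal hle c.isClosedEmbedding.isClosed_range
    rw [hd.closure_range] at h1
    exact h1 (Set.mem_univ w)
  haveI : IsIso c := isIso_of_isClosedImmersion_of_surjective c
  have hj : (inv c ≫ pullback.snd j f.imageι) ≫ f.imageι = j := by
    rw [Category.assoc, ← pullback.condition, IsIso.inv_hom_id_assoc]
  calc f.ker = f.imageι.ker := (f.ker.ker_subschemeι).symm
    _ ≤ ((inv c ≫ pullback.snd j f.imageι) ≫ f.imageι).ker := Scheme.Hom.le_ker_comp _ _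
    _ = j.ker := by rw [hj]

theorem etale_image_section {S G Γ : Scheme.{u}} [IsLocallyNoetherian S] (hS : Pi1.IsNormalScheme S)
    (p : G ⟶ S) (i : Γ ⟶ G) [IsClosedImmersion i] [AlgebraicGeometry.Etale (i ≫ p)]
    (e' : S ⟶ Γ) (he : e' ≫ i ≫ p = 𝟙 S) :
    AlgebraicGeometry.Etale ((e' ≫ i).ker.subschemeι ≫ p) := by
  have hΓ : Pi1.IsNormalScheme Γ := isNormalScheme_of_etale (i ≫ p) hS
  haveI : IsLocallyNoetherian Γ := LocallyOfFiniteType.isLocallyNoetherian (i ≫ p)
  haveI : Mono e' := mono_of_mono_fac he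
  haveI : AlgebraicGeometry.Etale (e' ≫ i ≫ p) := by rw [he]; infer_instance
  haveI : AlgebraicGeometry.Etale e' := AlgebraicGeometry.Etale.of_comp e' (i ≫ p)
  haveI : IsOpenImmersion e' := IsOpenImmersion.of_flat_of_mono e'
  let W : Γ.Opens := ⟨closure (Set.range e'.base), isOpen_closure hΓ e'.isOpenEmbedding.isOpen_range⟩
  let d : S ⟶ W.toScheme := IsOpenImmersion.lift W.ι e' (by
    rw [Scheme.Opens.range_ι]; exact subset_closure)
  have hd : d ≫ W.ι = e' := IsOpenImmersion.lift_fac _ _ _
  have hdense : DenseRange d.base := fun w => by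
    rw [W.ι.isOpenEmbedding.toIsEmbedding.toIsInducing.closure_eq_preimage_closure_image]
    have hr : (W.ι.base '' Set.range d.base) = Set.range e'.base := by
      rw [← Set.range_comp]
      exact congrArg Set.range (funext fun s => congr(($hd).base s))
    show W.ι.base w ∈ closure _
    rw [hr]
    exact w.2
  haveI : IsClosedImmersion W.ι := IsClosedImmersion.of_isPreimmersion _ (by
    rw [Scheme.Opens.range_ι]; exact isClosed_closure)
  haveI : IsReduced W.toScheme := by
    haveI := isReduced_of_isNormal hΓ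
    infer_instance
  have hker : (e' ≫ i).ker = (W.ι ≫ i).ker := by
    rw [← hd, Category.assoc]
    exact ker_comp_eq d (W.ι ≫ i) hdense
  rw [hker]
  haveI : IsIso (W.ι ≫ i).toImage := inferInstance
  rw [← MorphismProperty.cancel_left_of_respectsIso @AlgebraicGeometry.Etale (W.ι ≫ i).toImage,
    ← Category.assoc, show (W.ι ≫ i).toImage ≫ (W.ι ≫ i).ker.subschemeι = W.ι ≫ i from (W.ι ≫ i).toImage_imageι,
    Category.assoc]
  infer_instance

end Groth.Agent.AlignedLib
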